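import Cfsg.Agent.EqLemmas
import Cfsg.Agent.S1666
import Cfsg.Agent.S2046
import Cfsg.Prelude.Def_Spor_HN
import Cfsg.Prelude.Def_SporadicB

/-!
# Stem extensions over a double cover of the Higman-Sims group extended by two

* `eq_top_of_double_cover` : a non-split double cover of `HS` is perfect
* `CoverPair` : `N₀` of index two in `N`, a perfect double cover of `HS`
* `CoverPair.exists_core` : over such a pair a central extension has a subgroup meeting the kernel trivially,
  modulo which the preimage of `N` is commutative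
-/

set_option autoImplicit false

open scoped commutatorElement

namespace Cfsg.Agent.MultiplierHN

theorem hs_simple : IsSimpleGroup ↥Cfsg.Spor.HS := by
  obtain ⟨e⟩ := S1666.hs_iso
  have := Leech.isSimpleGroup_hs
  exact e.isSimpleGroup

theorem hs_commutator : commutator ↥Cfsg.Spor.HS = ⊤ := by
  obtain ⟨e⟩ := S1666.hs_iso
  have hc : Nat.card ↥Cfsg.Spor.HS = 44352000 := (Nat.card_congr e.toEquiv).trans Leech.natCard_hsGroup
  have := hs_simple
  rcases (inferInstance : (commutator ↥Cfsg.Spor.HS).Normal).eq_bot_or_eq_top with h | h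
  · exfalso
    have hcomm : ∀ a b : ↥Cfsg.Spor.HS, a * b = b * a := fun a b => by
      rw [← commutatorElement_eq_one_iff_mul_comm, ← Subgroup.mem_bot, ← h, commutator_def]
      exact Subgroup.commutator_mem_commutator (Subgroup.mem_top a) (Subgroup.mem_top b)
    let _ : CommGroup ↥Cfsg.Spor.HS := { (inferInstance : Group ↥Cfsg.Spor.HS) with mul_comm := hcomm }
    have : Finite ↥Cfsg.Spor.HS := Nat.finite_of_card_ne_zero (by omega)
    have hp := IsSimpleGroup.prime_card (α := ↥Cfsg.Spor.HS)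
    rw [hc] at hp
    norm_num at hp
  · exact h

theorem eq_top_of_double_cover {H : Type*} [Group H] (h : Cfsg.IsNonsplitDoubleCover H ↥Cfsg.Spor.HS) :
    commutator H = ⊤ := by
  obtain ⟨h2, ⟨e⟩, hns⟩ := h
  set π : H →* ↥Cfsg.Spor.HS := e.toMonoidHom.comp (QuotientGroup.mk' (Subgroup.center H))
  have hπ : Function.Surjective π := e.surjective.comp (QuotientGroup.mk'_surjective _)
  have hker : π.ker = Subgroup.center H := by
    ext x
    simp [π]
  have hsup : commutator H ⊔ Subgroup.center H = ⊤ := by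
    rw [← hker, ← Subgroup.comap_map_eq, commutator_def, Subgroup.map_commutator,
      Subgroup.map_top_of_surjective π hπ, ← commutator_def, hs_commutator, Subgroup.comap_top]
  by_cases hz : Subgroup.center H ≤ commutator H
  · rwa [sup_eq_left.2 hz] at hsup
  · exfalso
    have hfin : Finite (Subgroup.center H) := Nat.finite_of_card_ne_zero (by omega)
    have hdis : commutator H ⊓ Subgroup.center H = ⊥ := by
      have hlt : commutator H ⊓ Subgroup.center H < Subgroup.center H :=
        lt_of_le_of_ne inf_le_right fun he => hz (inf_eq_right.1 he)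
      have hdvd := Subgroup.card_dvd_of_le (inf_le_right : commutator H ⊓ Subgroup.center H ≤ _)
      rw [h2] at hdvd
      rcases (Nat.dvd_prime Nat.prime_two).1 hdvd with h1 | h1
      · exact Subgroup.card_eq_one.1 h1
      · exact absurd (Subgroup.eq_of_le_of_card_ge hlt.le (by omega)) hlt.ne
    have hd : Disjoint (Subgroup.center H) (commutator H) := by rw [disjoint_iff, inf_comm, hdis]
    refine hns (commutator H) (Subgroup.isComplement'_of_disjoint_and_mul_eq_univ hd ?_)
    rw [← Subgroup.normal_mul, sup_comm, hsup, Subgroup.coe_top]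

/-- A subgroup of index two of `N` which is a perfect double cover of `HS`. -/
structure CoverPair {G : Type} [Group G] (N N₀ : Subgroup G) where
  le : N₀ ≤ N
  mul_out : ∀ a ∈ N, ∀ b ∈ N, a ∉ N₀ → b ∉ N₀ → a * b ∈ N₀
  perfect : ⁅N₀, N₀⁆ = N₀
  rho : N₀ →* ↥Cfsg.Spor.HS
  rho_surj : Function.Surjective rho
  ker_central : rho.ker ≤ Subgroup.center N₀
  natCard_ker : Nat.card rho.ker = 2

variable {G : Type} [Group G] {N N₀ : Subgroup G}

theorem coverPair_of {K : Subgroup N} (hK : K.index = 2) (hc : Cfsg.IsNonsplitDoubleCover K ↥Cfsg.Spor.HS) :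
    ∃ N₀ : Subgroup G, Nonempty (CoverPair N N₀) := by
  have hperf := eq_top_of_double_cover hc
  obtain ⟨h2, ⟨e⟩, -⟩ := hc
  let f : ↥(K.map N.subtype) ≃* K := (K.equivMapOfInjective N.subtype N.subtype_injective).symm
  refine ⟨K.map N.subtype, ⟨⟨Subgroup.map_subtype_le K, ?_, ?_,
    (e.toMonoidHom.comp (QuotientGroup.mk' (Subgroup.center K))).comp f.toMonoidHom, ?_, ?_, ?_⟩⟩⟩
  · intro a ha b hb hna hnb
    refine ⟨⟨a, ha⟩ * ⟨b, hb⟩, (Subgroup.mul_mem_iff_of_index_two hK).2 (iff_of_false ?_ ?_), rfl⟩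
    · exact fun h => hna ⟨_, h, rfl⟩
    · exact fun h => hnb ⟨_, h, rfl⟩
  · rw [← Subgroup.map_commutator]
    congr 1
    have := congrArg (Subgroup.map K.subtype) hperf
    rwa [Subgroup.map_subtype_commutator, ← MonoidHom.range_eq_map, Subgroup.range_subtype] at this
  · exact (e.surjective.comp (QuotientGroup.mk'_surjective _)).comp f.surjective
  · intro x hx
    simp only [MonoidHom.mem_ker, MonoidHom.comp_apply, MulEquiv.coe_toMonoidHom, map_eq_one_iff e e.injective,
      QuotientGroup.mk'_apply, QuotientGroup.eq_one_iff, Subgroup.mem_center_iff] at hx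
    refine Subgroup.mem_center_iff.2 fun y => f.injective ?_
    rw [map_mul, map_mul]
    exact hx (f y)
  · rw [← h2]
    refine Nat.card_congr (f.toEquiv.subtypeEquiv fun x => ?_)
    rw [MonoidHom.mem_ker, MonoidHom.comp_apply, MonoidHom.comp_apply]
    exact (map_eq_one_iff e e.injective).trans (QuotientGroup.eq_one_iff _)

theorem commutatorElement_mul_of_central {Γ : Type*} [Group Γ] (a g h : Γ) (hc : g * ⁅a, h⁆ = ⁅a, h⁆ * g) :
    ⁅a, g * h⁆ = ⁅a, g⁆ * ⁅a, h⁆ := by
  calc ⁅a, g * h⁆ = ⁅a, g⁆ * (g * ⁅a, h⁆) * g⁻¹ := by simp only [commutatorElement_def]; group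
    _ = _ := by rw [hc]; group

/-- A perfect subgroup of the preimage meeting the kernel trivially, with commutative quotient. -/
theorem CoverPair.exists_core (P : CoverPair N N₀) {Γ : Type} [Group Γ] [Finite Γ] (σ : Γ →* G)
    (hσ : Function.Surjective σ) (hcen : σ.ker ≤ Subgroup.center Γ) :
    ∃ M : Subgroup Γ, M ≤ N₀.comap σ ∧ (∀ a ∈ σ.ker, a ∈ M → a = 1) ∧ M.map σ = N₀ ∧
      ∀ g ∈ N.comap σ, ∀ h ∈ N.comap σ, ⁅g, h⁆ ∈ M := by
  set F₀ := N₀.comap σ with hF₀
  set M := ⁅F₀, F₀⁆ with hM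
  have hMF : M ≤ F₀ := Subgroup.commutator_le_self F₀
  have hmap : M.map σ = N₀ := by
    rw [hM, Subgroup.map_commutator, Subgroup.map_comap_eq_self_of_surjective hσ, P.perfect]
  have hcc : ∀ a ∈ σ.ker, ∀ g : Γ, g * a = a * g := fun a ha g => Subgroup.mem_center_iff.1 (hcen ha) g
  have hsplit : ∀ g ∈ F₀, ∃ m ∈ M, ∃ a ∈ σ.ker, g = m * a := by
    intro g hg
    obtain ⟨m, hm, hmg⟩ := (hmap.ge : N₀ ≤ M.map σ) hg
    refine ⟨m, hm, m⁻¹ * g, ?_, by group⟩
    rw [MonoidHom.mem_ker, map_mul, map_inv, hmg, inv_mul_cancel]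
  have hMperf : ⁅M, M⁆ = M := by
    refine le_antisymm (Subgroup.commutator_le_self M) ?_
    conv_lhs => rw [hM]
    rw [Subgroup.commutator_le]
    intro g hg h hh
    obtain ⟨m, hm, a, ha, rfl⟩ := hsplit g hg
    obtain ⟨n, hn, b, hb, rfl⟩ := hsplit h hh
    have e : ⁅m * a, n * b⁆ = ⁅m, n⁆ := by
      rw [commutatorElement_def, commutatorElement_def]
      calc m * a * (n * b) * (m * a)⁻¹ * (n * b)⁻¹
          = m * (a * n) * (b * a⁻¹) * m⁻¹ * b⁻¹ * n⁻¹ := by group
        _ = m * n * (a * (b * a⁻¹)) * m⁻¹ * b⁻¹ * n⁻¹ := by rw [← hcc a ha n]; group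
        _ = m * n * (m⁻¹ * b) * b⁻¹ * n⁻¹ := by
            rw [hcc b hb m⁻¹, ← mul_assoc a b a⁻¹, hcc b hb a]; group
        _ = _ := by group
    rw [e]
    exact Subgroup.commutator_mem_commutator hm hn
  -- the composite map onto `HS`
  let r : M →* N₀ := (σ.comp M.subtype).codRestrict N₀ fun m => hMF m.2
  let τ : M →* ↥Cfsg.Spor.HS := P.rho.comp r
  have hr : Function.Surjective r := fun n => by
    obtain ⟨m, hm, hmn⟩ := (hmap.ge : N₀ ≤ M.map σ) n.2
    exact ⟨⟨m, hm⟩, Subtype.ext hmn⟩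
  have hMtop : commutator M = ⊤ := by
    refine Subgroup.map_injective M.subtype_injective ?_
    rw [Subgroup.map_subtype_commutator, hMperf, ← MonoidHom.range_eq_map, Subgroup.range_subtype]
  have hτc : τ.ker ≤ Subgroup.center M := by
    intro k hk
    have hk' : ∀ g : M, ⁅(k : Γ), (g : Γ)⁆ ∈ σ.ker := fun g => by
      have h := congrArg Subtype.val (Subgroup.mem_center_iff.1 (P.ker_central hk) (r g))
      change σ (g : Γ) * σ (k : Γ) = σ (k : Γ) * σ (g : Γ) at h
      rw [MonoidHom.mem_ker, map_commutatorElement, commutatorElement_eq_one_iff_mul_comm, h]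
    let ψ : M →* σ.ker := MonoidHom.mk' (fun g => ⟨⁅(k : Γ), (g : Γ)⁆, hk' g⟩) fun g h => by
      refine Subtype.ext ?_
      change ⁅(k : Γ), (g : Γ) * h⁆ = ⁅(k : Γ), (g : Γ)⁆ * ⁅(k : Γ), (h : Γ)⁆
      exact commutatorElement_mul_of_central (k : Γ) g h (hcc _ (hk' h) (g : Γ))
    refine Subgroup.mem_center_iff.2 fun g => Subtype.ext ?_
    have hgc : g ∈ commutator M := hMtop ▸ Subgroup.mem_top g
    have hle : commutator M ≤ ψ.ker := by
      rw [commutator_def, Subgroup.commutator_le]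
      intro u _ v _
      rw [MonoidHom.mem_ker, map_commutatorElement, commutatorElement_eq_one_iff_mul_comm]
      exact Subtype.ext (hcc _ (ψ v).2 _)
    have h1 := congrArg Subtype.val (hle hgc)
    change ⁅(k : Γ), (g : Γ)⁆ = 1 at h1
    exact (commutatorElement_eq_one_iff_mul_comm.1 h1).symm
  obtain ⟨π, hπ⟩ := S2046.result.2 M τ ⟨P.rho_surj.comp hr, hτc, by rw [hMtop]; exact le_top⟩
  have hcard : Nat.card τ.ker ≤ 2 := by
    refine (Nat.card_le_card_of_surjective π hπ).trans (le_of_eq ?_)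
    rw [Nat.card_congr Multiplicative.toAdd, Nat.card_zmod]
  have : Finite P.rho.ker := Nat.finite_of_card_ne_zero (by rw [P.natCard_ker]; norm_num)
  let rk : τ.ker → P.rho.ker := fun k => ⟨r k.1, k.2⟩
  have hrk : Function.Surjective rk := fun n => by
    obtain ⟨m, hm⟩ := hr n.1
    exact ⟨⟨m, by rw [MonoidHom.mem_ker, MonoidHom.comp_apply, hm]; exact n.2⟩, Subtype.ext hm⟩
  have hrki : Function.Injective rk :=
    (hrk.bijective_of_nat_card_le (by rw [P.natCard_ker]; exact hcard)).1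
  refine ⟨M, hMF, fun a ha haM => ?_, hmap, fun g hg h hh => ?_⟩
  · have h1 : r ⟨a, haM⟩ = 1 := Subtype.ext ha
    have := @hrki ⟨⟨a, haM⟩, by rw [MonoidHom.mem_ker, MonoidHom.comp_apply, h1, map_one]⟩ 1
      (Subtype.ext (h1.trans (map_one r).symm))
    exact congrArg (fun k : τ.ker => ((k : M) : Γ)) this
  · -- the quotient of the preimage of `N` by `M` is commutative
    have hF₀g : ∀ u ∈ N.comap σ, ∀ v ∈ F₀, u * v * u⁻¹ ∈ F₀ := by
      intro u hu v hv
      rw [hF₀, Subgroup.mem_comap, map_mul, map_mul, map_inv]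
      by_cases hu₀ : σ u ∈ N₀
      · exact mul_mem (mul_mem hu₀ hv) (inv_mem hu₀)
      · exact P.mul_out _ (N.mul_mem hu (P.le hv)) _ (N.inv_mem hu)
          (fun hh' => hu₀ ((N₀.mul_mem_cancel_right hv).1 hh')) (fun hh' => hu₀ (inv_mem_iff.1 hh'))
    have hMn : ∀ u ∈ N.comap σ, ∀ m ∈ M, u * m * u⁻¹ ∈ M := by
      intro u hu
      have : M ≤ M.comap (MulAut.conj u).toMonoidHom := by
        conv_lhs => rw [hM]
        rw [Subgroup.commutator_le]
        intro a ha b hb
        change u * ⁅a, b⁆ * u⁻¹ ∈ M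
        rw [show u * ⁅a, b⁆ * u⁻¹ = ⁅u * a * u⁻¹, u * b * u⁻¹⁆ from
          map_commutatorElement (MulAut.conj u) a b]
        exact Subgroup.commutator_mem_commutator (hF₀g u hu a ha) (hF₀g u hu b hb)
      exact fun m hm => this hm
    -- an element of `F₀` commutes with everything modulo `M`
    have hone : ∀ u ∈ F₀, ∀ v ∈ N.comap σ, ⁅u, v⁆ ∈ M := by
      intro u hu v hv
      obtain ⟨m, hm, a, ha, rfl⟩ := hsplit u hu
      have e : ⁅m * a, v⁆ = m * (v * m⁻¹ * v⁻¹) := by
        rw [commutatorElement_def]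
        calc m * a * v * (m * a)⁻¹ * v⁻¹ = m * (a * v) * a⁻¹ * m⁻¹ * v⁻¹ := by group
          _ = _ := by rw [← hcc a ha v]; group
      rw [e]
      exact mul_mem hm (hMn v hv _ (inv_mem hm))
    by_cases hg₀ : g ∈ F₀
    · exact hone g hg₀ h hh
    by_cases hh₀ : h ∈ F₀
    · rw [← commutatorElement_inv]
      exact inv_mem (hone h hh₀ g hg)
    have he : g⁻¹ * h ∈ F₀ := by
      rw [hF₀, Subgroup.mem_comap, map_mul, map_inv]
      exact P.mul_out _ (inv_mem hg) _ hh (fun hx => hg₀ (Subgroup.mem_comap.2 (inv_mem_iff.1 hx))) hh₀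
    have e : ⁅g, h⁆ = g * ⁅g, g⁻¹ * h⁆ * g⁻¹ := by
      rw [commutatorElement_def, commutatorElement_def]; group
    rw [e]
    refine hMn g hg _ ?_
    rw [← commutatorElement_inv]
    exact inv_mem (hone _ he g hg)

end Cfsg.Agent.MultiplierHN
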