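import Cfsg.Agent.Lib.MultiplierHN.Cover
import Cfsg.Agent.Lib.SLTwoMult.Basic

/-!
# The Schur multiplier of the Harada-Norton group

Relative to the facts that `⟨x, y, z⟩` has finite index and has a subgroup of index two which is a non-split double
cover of `HS`: in every stem extension the fourteen relators hold for suitable lifts of the generators.

* `multiplier_one`
-/

set_option autoImplicit false

open scoped commutatorElement

namespace Cfsg.Agent.MultiplierHN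

open Cfsg.Spor.HN (Gen)

/-- The relators. -/
abbrev rels : Set (FreeGroup Gen) := Cfsg.Spor.coxRelators Cfsg.Spor.HN.edges ∪ {r | r ∈ Cfsg.Spor.HN.extra}

/-- A generator of HN. -/
noncomputable abbrev gen (i : Gen) : Cfsg.Spor.HN := PresentedGroup.of i

/-- The subgroup of the statement. -/
noncomputable abbrev xyz : Subgroup Cfsg.Spor.HN :=
  (Subgroup.closure ({Cfsg.Spor.HN.x, Cfsg.Spor.HN.y, Cfsg.Spor.HN.z} : Set (FreeGroup Gen))).map
    (PresentedGroup.mk rels)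

theorem rel_eq_one {r : FreeGroup Gen} (h : r ∈ Cfsg.Spor.HN.extra) :
    FreeGroup.lift gen r = (1 : Cfsg.Spor.HN) := by
  have e : FreeGroup.lift gen r = PresentedGroup.mk rels r :=
    DFunLike.congr_fun (FreeGroup.ext_hom (f := FreeGroup.lift gen) (g := PresentedGroup.mk rels)
      fun a => FreeGroup.lift_apply_of) r
  rw [e]
  exact PresentedGroup.one_of_mem (Or.inr h)

theorem gen_mem_xyz {i : Gen} (h : i ≠ .t) : gen i ∈ xyz :=
  ⟨FreeGroup.of i, Subgroup.subset_closure (by cases i <;> simp_all), rfl⟩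

section algebra

variable {Γ : Type*} [Group Γ]

theorem conj_inv_pow (g a : Γ) (n : ℕ) : (g⁻¹ * a * g) ^ n = g⁻¹ * a ^ n * g := by
  simpa using conj_pow (i := n) (a := g⁻¹) (b := a)

/-- Correction of the lift of `t`. -/
theorem fix_t {a b X T : Γ} (ha : ∀ g, Commute a g) (hb : ∀ g, Commute b g) (h5 : T ^ 5 = a)
    (hx : X⁻¹ * T * X * T ^ 2 = b) :
    (T * (a * (b ^ 2)⁻¹)) ^ 5 = 1 ∧ X⁻¹ * (T * (a * (b ^ 2)⁻¹)) * X * (T * (a * (b ^ 2)⁻¹)) ^ 2 = 1 := by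
  have hba : b ^ 5 = a ^ 3 := by
    have e : X⁻¹ * T * X = b * (T ^ 2)⁻¹ := by rw [← hx]; group
    have e5 : (X⁻¹ * T * X) ^ 5 = a := by
      rw [conj_inv_pow, h5, mul_assoc, (ha X).eq, inv_mul_cancel_left]
    rw [e, (hb _).mul_pow, inv_pow, ← pow_mul, show 2 * 5 = 5 * 2 from rfl, pow_mul, h5] at e5
    rw [show a ^ 3 = a * a ^ 2 by group, ← mul_inv_eq_iff_eq_mul]
    exact e5
  set δ := a * (b ^ 2)⁻¹ with hδ
  have hd : ∀ g, Commute δ g := fun g => (ha g).mul_left ((hb g).pow_left 2).inv_left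
  have hab : ∀ n : ℕ, δ ^ n = a ^ n * (b ^ (2 * n))⁻¹ := fun n => by
    rw [hδ, (ha _).mul_pow, inv_pow, ← pow_mul]
  refine ⟨?_, ?_⟩
  · rw [(hd T).symm.mul_pow, h5, hab, show (2 * 5 : ℕ) = 5 * 2 from rfl, pow_mul, hba]
    group
  · have e : X⁻¹ * (T * δ) * X * (T * δ) ^ 2 = (X⁻¹ * T * X * T ^ 2) * δ ^ 3 := by
      rw [(hd T).symm.mul_pow]
      calc X⁻¹ * (T * δ) * X * (T ^ 2 * δ ^ 2) = X⁻¹ * T * (δ * X) * T ^ 2 * δ ^ 2 := by group
        _ = X⁻¹ * T * X * (δ * T ^ 2) * δ ^ 2 := by rw [(hd X).eq]; group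
        _ = _ := by rw [(hd (T ^ 2)).eq]; group
    rw [e, hx, hab, show (2 * 3 : ℕ) = 1 + 5 from rfl, pow_add, hba]
    group

/-- The lifts commute. -/
theorem fix_c {c Y T : Γ} (hc : ∀ g, Commute c g) (hY : Y ^ 6 = 1) (hT : T ^ 5 = 1)
    (h : T⁻¹ * Y⁻¹ * T * Y = c) : c = 1 := by
  have e : Y⁻¹ * T * Y = T * c := by rw [← h]; group
  have h5 : c ^ 5 = 1 := by
    have : (Y⁻¹ * T * Y) ^ 5 = 1 := by rw [conj_inv_pow, hT]; group
    rwa [e, (hc T).symm.mul_pow, hT, one_mul] at this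
  have hn : ∀ n : ℕ, (Y ^ n)⁻¹ * T * Y ^ n = T * c ^ n := by
    intro n
    induction n with
    | zero => simp
    | succ n ih =>
      calc (Y ^ (n + 1))⁻¹ * T * Y ^ (n + 1) = Y⁻¹ * ((Y ^ n)⁻¹ * T * Y ^ n) * Y := by
            rw [pow_succ]; group
        _ = Y⁻¹ * T * (c ^ n * Y) := by rw [ih]; group
        _ = Y⁻¹ * T * Y * c ^ n := by rw [((hc Y).pow_left n).eq]; group
        _ = _ := by rw [e, pow_succ']; group
  have h6 := hn 6
  rw [hY] at h6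
  simp only [inv_one, one_mul, mul_one, left_eq_mul] at h6
  rw [show c = c ^ 6 * (c ^ 5)⁻¹ by group, h5, h6, inv_one, mul_one]

/-- Correction of the lift of `z`. -/
theorem fix_z {d h u Z T : Γ} (hd : ∀ g, Commute d g) (hh : ∀ g, Commute h g) (hu : Commute u Z)
    (huT : u⁻¹ * T * u = T⁻¹) (hz : Z ^ 2 = h) (hzt : (Z * T) ^ 3 = d) :
    (Z * (h * d⁻¹)) ^ 2 = 1 ∧ (Z * (h * d⁻¹) * T) ^ 3 = 1 := by
  have hdd : d ^ 2 = h ^ 3 := by
    have h1 : (Z * T⁻¹) ^ 3 = d := by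
      have e : u⁻¹ * (Z * T) * u = Z * T⁻¹ := by
        calc u⁻¹ * (Z * T) * u = u⁻¹ * (Z * u) * (u⁻¹ * T * u) := by group
          _ = _ := by rw [← hu.eq, huT]; group
      rw [← e, conj_inv_pow, hzt, mul_assoc, (hd u).eq,
        inv_mul_cancel_left]
    have h2 : (T * Z) ^ 3 = d := by
      rw [show T * Z = Z⁻¹ * (Z * T) * Z by group, conj_inv_pow, hzt, mul_assoc, (hd Z).eq, inv_mul_cancel_left]
    have h3 : Z * T⁻¹ = (T * Z)⁻¹ * h := by
      calc Z * T⁻¹ = Z⁻¹ * (Z ^ 2 * T⁻¹) := by group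
        _ = _ := by rw [hz, (hh T⁻¹).eq]; group
    rw [h3, ((hh _).symm).mul_pow, inv_pow, h2] at h1
    rw [pow_two]
    nth_rw 2 [← h1]
    group
  set δ := h * d⁻¹ with hδ
  have he : ∀ g, Commute δ g := fun g => (hh g).mul_left (hd g).inv_left
  have hp : ∀ n : ℕ, δ ^ n = h ^ n * (d ^ n)⁻¹ := fun n => by rw [hδ, (hh _).mul_pow, inv_pow]
  refine ⟨?_, ?_⟩
  · rw [(he Z).symm.mul_pow, hz, hp, hdd]
    group
  · rw [mul_assoc Z, (he T).eq, ← mul_assoc, (he _).symm.mul_pow, hzt, hp, ← hdd]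
    group

end algebra

variable {N₀ : Subgroup Cfsg.Spor.HN}

set_option maxHeartbeats 1000000 in
theorem mem_core (P : CoverPair xyz N₀) : gen .x ∈ N₀ ∧ gen .y ∈ N₀ := by
  have hsub : ∀ a ∈ xyz, a ^ 2 ∈ N₀ := fun a ha => by
    by_cases h : a ∈ N₀
    · exact pow_mem h 2
    · rw [pow_two]; exact P.mul_out a ha a ha h h
  have hconj : ∀ a ∈ xyz, ∀ n ∈ N₀, a * n * a⁻¹ ∈ N₀ := fun a ha n hn => by
    by_cases h : a ∈ N₀
    · exact mul_mem (mul_mem h hn) (inv_mem h)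
    · exact P.mul_out _ (xyz.mul_mem ha (P.le hn)) _ (xyz.inv_mem ha)
        (fun hh => h ((N₀.mul_mem_cancel_right hn).1 hh)) (fun hh => h (inv_mem_iff.1 hh))
  let M : Subgroup xyz := N₀.subgroupOf xyz
  have hM : M.Normal := ⟨fun n hn g => hconj g g.2 n hn⟩
  let q : xyz →* xyz ⧸ M := QuotientGroup.mk' M
  have hq : ∀ v : xyz ⧸ M, v ^ 2 = 1 := fun v => by
    obtain ⟨g, rfl⟩ := QuotientGroup.mk'_surjective M v
    rw [← map_pow]
    exact (QuotientGroup.eq_one_iff _).2 (hsub g g.2)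
  have hinv : ∀ v : xyz ⧸ M, v⁻¹ = v := fun v => inv_eq_of_mul_eq_one_left (by rw [← pow_two]; exact hq v)
  have hcomm : ∀ u v : xyz ⧸ M, u * v = v * u := fun u v => by
    rw [← hinv (u * v), mul_inv_rev, hinv, hinv]
  let ev : Gen → xyz := fun i => if h : i = .t then 1 else ⟨gen i, gen_mem_xyz h⟩
  have hev : ∀ r ∈ Cfsg.Spor.HN.extra.take 10, FreeGroup.lift (fun i => q (ev i)) r = 1 := by
    intro r hr
    have hr' := List.mem_of_mem_take hr
    have e : (FreeGroup.lift ev r : Cfsg.Spor.HN) = 1 := by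
      rw [← rel_eq_one hr']
      simp only [Cfsg.Spor.HN.extra, List.take_succ_cons, List.take_zero, List.mem_cons, List.not_mem_nil,
        or_false] at hr
      rcases hr with rfl | rfl | rfl | rfl | rfl | rfl | rfl | rfl | rfl | rfl <;>
        simp [ev, Cfsg.Spor.HN.x, Cfsg.Spor.HN.y, Cfsg.Spor.HN.z]
    rw [show FreeGroup.lift (fun i => q (ev i)) r = q (FreeGroup.lift ev r) from
      (DFunLike.congr_fun (FreeGroup.ext_hom (f := q.comp (FreeGroup.lift ev))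
        (g := FreeGroup.lift fun i => q (ev i)) fun i => by simp) r).symm,
      show FreeGroup.lift ev r = 1 from Subtype.ext e, map_one]
  have hy := hev (((Cfsg.Spor.HN.x⁻¹) * (Cfsg.Spor.HN.y ^ 2) * Cfsg.Spor.HN.x * (Cfsg.Spor.HN.y ^ 3)) ^ 3)
    (by simp only [Cfsg.Spor.HN.extra, List.take_succ_cons, List.take_zero, List.mem_cons, true_or, or_true])
  have hx := hev (Cfsg.Spor.HN.z * (((((Cfsg.Spor.HN.y ^ 3) * Cfsg.Spor.HN.x * Cfsg.Spor.HN.y *
      Cfsg.Spor.HN.x * Cfsg.Spor.HN.y)⁻¹ * Cfsg.Spor.HN.z * ((Cfsg.Spor.HN.y ^ 3) * Cfsg.Spor.HN.x *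
      Cfsg.Spor.HN.y * Cfsg.Spor.HN.x * Cfsg.Spor.HN.y)) * Cfsg.Spor.HN.x) ^ 3))
    (by simp only [Cfsg.Spor.HN.extra, List.take_succ_cons, List.take_zero, List.mem_cons, true_or, or_true])
  simp only [Cfsg.Spor.HN.x, Cfsg.Spor.HN.y, Cfsg.Spor.HN.z, map_mul, map_inv, map_pow, FreeGroup.lift_apply_of] at hx hy
  have h3 : ∀ v : xyz ⧸ M, v ^ 3 = v := fun v => by rw [pow_succ, hq, one_mul]
  have hcx : ∀ v w : xyz ⧸ M, v⁻¹ * w * v = w := fun v w => by rw [hcomm v⁻¹ w, inv_mul_cancel_right]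
  have hmm : ∀ v : xyz ⧸ M, v * v = 1 := fun v => by rw [← pow_two]; exact hq v
  rw [hq, mul_one, inv_mul_cancel, one_mul, h3, h3] at hy
  rw [hcx, h3, ← mul_assoc, hmm, one_mul] at hx
  refine ⟨?_, ?_⟩
  · have := (QuotientGroup.eq_one_iff _).1 hx
    simpa [ev, M, Subgroup.mem_subgroupOf] using this
  · have := (QuotientGroup.eq_one_iff _).1 hy
    simpa [ev, M, Subgroup.mem_subgroupOf] using this

theorem x_sq_central (P : CoverPair xyz N₀) : gen .z * gen .x ^ 2 = gen .x ^ 2 * gen .z := by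
  obtain ⟨hxN, hyN⟩ := mem_core P
  have hz2 : gen .z ^ 2 = 1 := by
    have hr := rel_eq_one (r := Cfsg.Spor.HN.z ^ 2) (by simp only [Cfsg.Spor.HN.extra, List.mem_cons, true_or, or_true])
    simpa using hr
  have hzx : (gen .z * gen .x) ^ 2 = 1 := by
    have hr := rel_eq_one (r := (Cfsg.Spor.HN.z * Cfsg.Spor.HN.x) ^ 2) (by simp only [Cfsg.Spor.HN.extra, List.mem_cons, true_or, or_true])
    simpa using hr
  have hyx : gen .x ^ 2 * gen .y * gen .x ^ 2 * (gen .y)⁻¹ = 1 := by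
    have hr := rel_eq_one (r := (Cfsg.Spor.HN.x ^ 2) * Cfsg.Spor.HN.y * (Cfsg.Spor.HN.x ^ 2) * (Cfsg.Spor.HN.y⁻¹)) (by simp only [Cfsg.Spor.HN.extra, List.mem_cons, true_or, or_true])
    simpa using hr
  set u := gen .x ^ 2 with hu
  set z := gen .z with hz
  have hzinv : z⁻¹ = z := inv_eq_of_mul_eq_one_left (by rw [← pow_two]; exact hz2)
  have hzu : z * u * z⁻¹ = u⁻¹ := by
    have e : z * gen .x * z = (gen .x)⁻¹ := eq_inv_of_mul_eq_one_left (by rw [← hzx, pow_two]; group)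
    have e' : z * gen .x * z⁻¹ = (gen .x)⁻¹ := by rw [hzinv]; exact e
    rw [hu, ← conj_pow, e', inv_pow]
  have hyu : gen .y * u * (gen .y)⁻¹ = u⁻¹ := eq_inv_of_mul_eq_one_right (by rw [← hyx]; group)
  -- every element of `xyz` fixes or inverts `u`
  let C : Subgroup Cfsg.Spor.HN :=
    { carrier := {g | g * u * g⁻¹ = u ∨ g * u * g⁻¹ = u⁻¹}
      one_mem' := Or.inl (by group)
      mul_mem' := fun {g h} hg hh => by
        have e : g * h * u * (g * h)⁻¹ = g * (h * u * h⁻¹) * g⁻¹ := by group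
        have e' : g * u⁻¹ * g⁻¹ = (g * u * g⁻¹)⁻¹ := by group
        rcases hh with hh | hh <;> rcases hg with hg | hg <;>
          simp only [Set.mem_ofPred_eq, e, hh, e', hg, inv_inv, true_or, or_true]
      inv_mem' := fun {g} hg => by
        rcases hg with hg | hg
        · left; nth_rw 1 [← hg]; group
        · right
          calc g⁻¹ * u * g⁻¹⁻¹ = g⁻¹ * (g * u * g⁻¹)⁻¹ * g := by rw [hg]; group
            _ = u⁻¹ := by group }
  have hC : xyz ≤ C := by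
    rw [Subgroup.map_le_iff_le_comap, Subgroup.closure_le]
    rintro _ (rfl | rfl | rfl)
    · left
      show PresentedGroup.mk rels Cfsg.Spor.HN.x * u * (PresentedGroup.mk rels Cfsg.Spor.HN.x)⁻¹ = u
      change gen .x * u * (gen .x)⁻¹ = u
      rw [hu]; group
    · right; exact hyu
    · right; exact hzu
  have huN : u ∈ N₀ := pow_mem hxN 2
  have hcen : ∀ n ∈ N₀, n * u = u * n := by
    have hle : ⁅N₀, N₀⁆ ≤ Subgroup.centralizer {u} := by
      rw [Subgroup.commutator_le]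
      intro a ha b hb
      rw [Subgroup.mem_centralizer_singleton_iff, ← mul_inv_eq_iff_eq_mul]
      have e : ⁅a, b⁆ * u * ⁅a, b⁆⁻¹ = a * (b * (a⁻¹ * (b⁻¹ * u * b) * a) * b⁻¹) * a⁻¹ := by
        rw [commutatorElement_def]; group
      rw [e]
      have inv_conj : ∀ g : Cfsg.Spor.HN, g * u⁻¹ * g⁻¹ = (g * u * g⁻¹)⁻¹ := fun g => by group
      have inv_conj' : ∀ g : Cfsg.Spor.HN, g⁻¹ * u⁻¹ * g = (g⁻¹ * u * g)⁻¹ := fun g => by group
      rcases hC (P.le ha) with h1 | h1 <;> rcases hC (P.le hb) with h2 | h2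
      all_goals
        have h1' : a⁻¹ * (a * u * a⁻¹) * a = u := by group
        have h2' : b⁻¹ * (b * u * b⁻¹) * b = u := by group
        rw [h1] at h1'
        rw [h2] at h2'
        first
          | (simp only [inv_conj', inv_eq_iff_eq_inv] at h1' h2')
          | skip
        simp only [h1', h2', inv_conj, inv_conj', h1, h2, inv_inv]
    rw [P.perfect] at hle
    exact fun n hn => Subgroup.mem_centralizer_singleton_iff.1 (hle hn)
  have h4 : u * u = 1 := by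
    have h := hcen _ hyN
    rw [← mul_inv_eq_iff_eq_mul, hyu] at h
    calc u * u = u⁻¹ * u := by rw [h]
      _ = 1 := inv_mul_cancel u
  rw [← mul_inv_eq_iff_eq_mul, hzu]
  exact inv_eq_of_mul_eq_one_left h4

/-- **The multiplier of HN is trivial**, given the structure of `⟨x, y, z⟩`. -/
theorem multiplier_one (hidx : xyz.index ≠ 0)
    (hdc : ∃ K : Subgroup xyz, K.Normal ∧ K.index = 2 ∧ Cfsg.IsNonsplitDoubleCover K ↥Cfsg.Spor.HS) :
    Cfsg.HasCyclicSchurMultiplier Cfsg.Spor.HN 1 := by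
  obtain ⟨K, -, hK, hcov⟩ := hdc
  obtain ⟨N₀, ⟨P⟩⟩ := coverPair_of hK hcov
  have hfin : Finite Cfsg.Spor.HN := by
    have hHS : Nat.card ↥Cfsg.Spor.HS = 44352000 := by
      obtain ⟨e⟩ := S1666.hs_iso
      exact (Nat.card_congr e.toEquiv).trans Leech.natCard_hsGroup
    obtain ⟨h2, ⟨e⟩, -⟩ := hcov
    have hKc : Nat.card K ≠ 0 := by
      rw [Subgroup.card_eq_card_quotient_mul_card_subgroup (Subgroup.center K), Nat.card_congr e.toEquiv, hHS, h2]
      norm_num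
    have hxc : Nat.card xyz ≠ 0 := by
      rw [← K.card_mul_index, hK]
      exact mul_ne_zero hKc two_ne_zero
    exact Nat.finite_of_card_ne_zero (by rw [← xyz.card_mul_index]; exact mul_ne_zero hxc hidx)
  refine SLTwoMult.hasCyclicSchurMultiplier_one fun Γ _ _ σ hσ r _ a₀ ha₀ _ => ?_
  obtain ⟨hsurj, hcen, hker⟩ := hσ
  obtain ⟨M, hMF, hMA, hMmap, hMcomm⟩ := P.exists_core σ hsurj hcen
  obtain ⟨hxN, hyN⟩ := mem_core P
  have hA : ∀ a : Γ, σ a = 1 → ∀ g, Commute a g := fun a ha g =>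
    (Subgroup.mem_center_iff.1 (hcen ha) g).symm
  obtain ⟨X, hXM, hX⟩ := (hMmap.ge : N₀ ≤ M.map σ) hxN
  obtain ⟨Y, hYM, hY⟩ := (hMmap.ge : N₀ ≤ M.map σ) hyN
  obtain ⟨Z₀, hZ₀⟩ := hsurj (gen .z)
  obtain ⟨T₀, hT₀⟩ := hsurj (gen .t)
  -- the quotient by the core
  let F : Subgroup Γ := xyz.comap σ
  have hMle : M ≤ F := hMF.trans (Subgroup.comap_mono P.le)
  let MF : Subgroup F := M.subgroupOf F
  have hMFn : MF.Normal := ⟨fun n hn g => by
    rw [Subgroup.mem_subgroupOf] at hn ⊢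
    have := mul_mem (hMcomm _ g.2 _ n.2) hn
    rwa [commutatorElement_def, inv_mul_cancel_right] at this⟩
  let q : F →* F ⧸ MF := QuotientGroup.mk' MF
  have hqM : ∀ g : F, (g : Γ) ∈ M → q g = 1 := fun g hg => (QuotientGroup.eq_one_iff g).2 hg
  -- `y ^ 6 = 1`
  have hY6 : Y ^ 6 = 1 := hMA _ (by
    rw [MonoidHom.mem_ker, map_pow, hY]
    have hr := rel_eq_one (r := Cfsg.Spor.HN.y ^ 6) (by simp only [Cfsg.Spor.HN.extra, List.mem_cons, true_or, or_true])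
    simpa using hr) (pow_mem hYM 6)
  -- `t`
  set a := T₀ ^ 5 with ha
  set b := X⁻¹ * T₀ * X * T₀ ^ 2 with hb
  have hσa : σ a = 1 := by
    rw [ha, map_pow, hT₀]
    have hr := rel_eq_one (r := Cfsg.Spor.HN.t ^ 5) (by simp only [Cfsg.Spor.HN.extra, List.mem_cons, true_or, or_true])
    simpa using hr
  have hσb : σ b = 1 := by
    rw [hb]
    simp only [map_mul, map_inv, map_pow, hT₀, hX]
    have hr := rel_eq_one (r := ((Cfsg.Spor.HN.x⁻¹ * Cfsg.Spor.HN.t * Cfsg.Spor.HN.x) * (Cfsg.Spor.HN.t ^ 2))) (by simp only [Cfsg.Spor.HN.extra, List.mem_cons, true_or, or_true])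
    simpa using hr
  obtain ⟨hT5, hTX⟩ := fix_t (hA a hσa) (hA b hσb) ha.symm hb.symm
  set T := T₀ * (a * (b ^ 2)⁻¹) with hTdef
  have hT : σ T = gen .t := by simp [hTdef, hσa, hσb, hT₀]
  have hσc : σ (T⁻¹ * Y⁻¹ * T * Y) = 1 := by
    simp only [map_mul, map_inv, hT, hY]
    have hr := rel_eq_one (r := Cfsg.Spor.HN.t⁻¹ * Cfsg.Spor.HN.y⁻¹ * Cfsg.Spor.HN.t * Cfsg.Spor.HN.y) (by simp only [Cfsg.Spor.HN.extra, List.mem_cons, true_or, or_true])
    simpa using hr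
  have hTY : T⁻¹ * Y⁻¹ * T * Y = 1 := fix_c (hA _ hσc) hY6 hT5 rfl
  -- `z`
  have hXF : X ∈ F := hMle hXM
  have hZF : Z₀ ∈ F := by rw [Subgroup.mem_comap, hZ₀]; exact gen_mem_xyz (by decide)
  have hXZ : Commute (X ^ 2) Z₀ := by
    have hm : ⁅X ^ 2, Z₀⁆ ∈ M := hMcomm _ (pow_mem hXF 2) _ hZF
    have hk : ⁅X ^ 2, Z₀⁆ ∈ σ.ker := by
      rw [MonoidHom.mem_ker, map_commutatorElement, commutatorElement_eq_one_iff_mul_comm, map_pow, hX, hZ₀]
      exact (x_sq_central P).symm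
    exact commutatorElement_eq_one_iff_mul_comm.1 (hMA _ hk hm)
  have huT : (X ^ 2)⁻¹ * T * X ^ 2 = T⁻¹ := by
    have e : X⁻¹ * T * X = (T ^ 2)⁻¹ := eq_inv_of_mul_eq_one_left hTX
    calc (X ^ 2)⁻¹ * T * X ^ 2 = X⁻¹ * (X⁻¹ * T * X) * X := by rw [pow_two]; group
      _ = X⁻¹ * (T ^ 2)⁻¹ * X := by rw [e]
      _ = (X⁻¹ * T ^ 2 * X)⁻¹ := by group
      _ = ((X⁻¹ * T * X) ^ 2)⁻¹ := by rw [conj_inv_pow]
      _ = (((T ^ 2)⁻¹) ^ 2)⁻¹ := by rw [e]
      _ = T ^ 5 * T⁻¹ := by group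
      _ = _ := by rw [hT5, one_mul]
  set h := Z₀ ^ 2 with hh
  set d := (Z₀ * T) ^ 3 with hd
  have hσh : σ h = 1 := by
    rw [hh, map_pow, hZ₀]
    have hr := rel_eq_one (r := Cfsg.Spor.HN.z ^ 2) (by simp only [Cfsg.Spor.HN.extra, List.mem_cons, true_or, or_true])
    simpa using hr
  have hσd : σ d = 1 := by
    rw [hd, map_pow, map_mul, hZ₀, hT]
    have hr := rel_eq_one (r := (Cfsg.Spor.HN.z * Cfsg.Spor.HN.t) ^ 3) (by simp only [Cfsg.Spor.HN.extra, List.mem_cons, true_or, or_true])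
    simpa using hr
  obtain ⟨hZ2, hZT⟩ := fix_z (hA d hσd) (hA h hσh) hXZ huT hh.symm hd.symm
  set Z := Z₀ * (h * d⁻¹) with hZdef
  have hZ : σ Z = gen .z := by simp [hZdef, hσh, hσd, hZ₀]
  -- the lifts satisfy the relators
  let s : Gen → Γ := fun | .x => X | .y => Y | .z => Z | .t => T
  have hσs : ∀ i, σ (s i) = gen i := fun | .x => hX | .y => hY | .z => hZ | .t => hT
  have hσr : ∀ w : FreeGroup Gen, σ (FreeGroup.lift s w) = FreeGroup.lift gen w := fun w =>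
    DFunLike.congr_fun (FreeGroup.ext_hom (f := σ.comp (FreeGroup.lift s)) (g := FreeGroup.lift gen)
      fun i => by simp [hσs]) w
  let zF : F := ⟨Z, by rw [Subgroup.mem_comap, hZ]; exact gen_mem_xyz (by decide)⟩
  let sF : Gen → F := fun | .x => ⟨X, hXF⟩ | .y => ⟨Y, hMle hYM⟩ | .z => zF | .t => 1
  have hqz : q zF ^ 2 = 1 := by
    rw [← map_pow]
    exact hqM _ (by simpa [zF, hZ2] using M.one_mem)
  have hqx : q ⟨X, hXF⟩ = 1 := hqM _ hXM
  have hqy : q ⟨Y, hMle hYM⟩ = 1 := hqM _ hYM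
  have hqzi : (q zF)⁻¹ = q zF := inv_eq_of_mul_eq_one_left (by rw [← pow_two]; exact hqz)
  have hqzz : q zF * q zF = 1 := by rw [← pow_two]; exact hqz
  let sQ : Gen → F ⧸ MF := fun | .x => 1 | .y => 1 | .z => q zF | .t => 1
  have key : ∀ w : FreeGroup Gen, w ∈ Cfsg.Spor.HN.extra → (FreeGroup.lift sF w : Γ) = FreeGroup.lift s w →
      FreeGroup.lift sQ w = 1 → FreeGroup.lift s w = 1 := fun w hw e hq => by
    have hq : q (FreeGroup.lift sF w) = 1 := by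
      rw [← hq]
      exact DFunLike.congr_fun (FreeGroup.ext_hom (f := q.comp (FreeGroup.lift sF))
        (g := FreeGroup.lift sQ) fun i => by cases i <;> simp [sF, sQ, hqx, hqy]) w
    refine hMA _ (by rw [MonoidHom.mem_ker, hσr, rel_eq_one hw]) ?_
    rw [← e]
    exact Subgroup.mem_subgroupOf.1 ((QuotientGroup.eq_one_iff _).1 hq)
  have hrels : ∀ w ∈ rels, FreeGroup.lift s w = 1 := by
    rintro w (hw | hw)
    · simp [Cfsg.Spor.coxRelators, Cfsg.Spor.coxNodes, Cfsg.Spor.HN.edges] at hw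
    · have hw' := hw
      simp only [Set.mem_ofPred_eq, Cfsg.Spor.HN.extra, List.mem_cons, List.not_mem_nil, or_false] at hw'
      rcases hw' with h' | h' | h' | h' | h' | h' | h' | h' | h' | h' | h' | h' | h' | h'
      iterate 10
        · refine key w hw ?_ ?_ <;> subst h'
          · simp [s, sF, zF, Cfsg.Spor.HN.x, Cfsg.Spor.HN.y, Cfsg.Spor.HN.z]
          · simp [sQ, hqzi, hqz, hqzz, pow_succ, Cfsg.Spor.HN.x, Cfsg.Spor.HN.y, Cfsg.Spor.HN.z]
      · subst h'; simpa [s, Cfsg.Spor.HN.x, Cfsg.Spor.HN.y, Cfsg.Spor.HN.z, Cfsg.Spor.HN.t] using hT5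
      · subst h'; simpa [s, Cfsg.Spor.HN.x, Cfsg.Spor.HN.y, Cfsg.Spor.HN.z, Cfsg.Spor.HN.t] using hTX
      · subst h'; simpa [s, Cfsg.Spor.HN.x, Cfsg.Spor.HN.y, Cfsg.Spor.HN.z, Cfsg.Spor.HN.t] using hTY
      · subst h'; simpa [s, Cfsg.Spor.HN.x, Cfsg.Spor.HN.y, Cfsg.Spor.HN.z, Cfsg.Spor.HN.t] using hZT
  let lift : Cfsg.Spor.HN →* Γ := PresentedGroup.toGroup (f := s) hrels
  have hsec : ∀ g, σ (lift g) = g := fun g =>
    DFunLike.congr_fun (PresentedGroup.ext (φ := σ.comp lift) (ψ := MonoidHom.id _) fun i => by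
      simp [lift, hσs]) g
  have hcle : commutator Γ ≤ lift.range := by
    rw [commutator_def, Subgroup.commutator_le]
    intro g _ k _
    have e : ∀ g : Γ, ∃ c, (∀ v, Commute c v) ∧ g = lift (σ g) * c := fun g => by
      refine ⟨(lift (σ g))⁻¹ * g, hA _ (by rw [map_mul, map_inv, hsec, inv_mul_cancel]), by group⟩
    obtain ⟨c₁, hc₁, e₁⟩ := e g
    obtain ⟨c₂, hc₂, e₂⟩ := e k
    refine ⟨⁅σ g, σ k⁆, ?_⟩
    rw [map_commutatorElement, commutatorElement_def, commutatorElement_def]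
    conv_rhs => rw [e₁, e₂]
    symm
    generalize lift (σ g) = u, lift (σ k) = v
    calc u * c₁ * (v * c₂) * (u * c₁)⁻¹ * (v * c₂)⁻¹
        = u * (c₁ * (v * c₂)) * c₁⁻¹ * u⁻¹ * c₂⁻¹ * v⁻¹ := by group
      _ = u * v * (c₂ * u⁻¹) * c₂⁻¹ * v⁻¹ := by rw [(hc₁ (v * c₂)).eq]; group
      _ = _ := by rw [(hc₂ u⁻¹).eq]; group
  obtain ⟨g, hg⟩ := hcle (hker ha₀)
  have := hsec g
  rw [hg, ha₀] at this
  rw [← hg, ← this, map_one]

end Cfsg.Agent.MultiplierHN
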